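import Groth.Agent.PureIdealSheaf.Basic
import Mathlib.AlgebraicGeometry.Morphisms.Flat
import Mathlib.AlgebraicGeometry.Morphisms.ClosedImmersion
import Mathlib.AlgebraicGeometry.Morphisms.UniversallyOpen
import Mathlib.AlgebraicGeometry.IdealSheaf.Subscheme

/-!
# Flat closed subschemes
-/

set_option autoImplicit false

universe u

open CategoryTheory AlgebraicGeometry TopologicalSpace PrimeSpectrum

namespace Groth.Agent.PureIdealSheaf

variable {X : Scheme.{u}}

/-- The trace of a subset on an affine open, seen in the spectrum. -/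
def trace (Z : Set X) {U : X.Opens} (hU : IsAffineOpen U) : Set (PrimeSpectrum Γ(X, U)) :=
  hU.fromSpec ⁻¹' Z

theorem germ_eq_zero_iff {U : X.Opens} (hU : IsAffineOpen U) (q : PrimeSpectrum Γ(X, U))
    (hp : hU.fromSpec q ∈ U) (x : Γ(X, U)) :
    X.presheaf.germ U (hU.fromSpec q) hp x = 0 ↔ ∃ s ∉ q.asIdeal, s * x = 0 := by
  have hq' : hU.primeIdealOf ⟨hU.fromSpec q, hp⟩ = q :=
    hU.fromSpec.isOpenEmbedding.injective (hU.fromSpec_primeIdealOf _)
  let _ := TopCat.Presheaf.algebra_section_stalk X.presheaf (⟨hU.fromSpec q, hp⟩ : U)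
  have h1 := hU.isLocalization_stalk ⟨hU.fromSpec q, hp⟩
  rw [hq'] at h1
  refine (IsLocalization.map_eq_zero_iff q.asIdeal.primeCompl
    (X.presheaf.stalk (hU.fromSpec q)) x).trans ?_
  exact ⟨fun ⟨s, hs⟩ => ⟨s, s.2, hs⟩, fun ⟨s, hs, h⟩ => ⟨⟨s, hs⟩, h⟩⟩

theorem mem_pureIdeal_iff {Z : Set X} {U : X.Opens} (hU : IsAffineOpen U) {x : Γ(X, U)} :
    x ∈ pureIdeal (trace Z hU) ↔ ∀ (p : X) (hp : p ∈ U), p ∈ Z → X.presheaf.germ U p hp x = 0 := by
  rw [mem_pureIdeal]
  refine ⟨fun h p hp hpZ => ?_, fun h q hq =>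
    (germ_eq_zero_iff hU q (hU.range_fromSpec.le ⟨q, rfl⟩) x).1 (h _ _ hq)⟩
  obtain ⟨q, rfl⟩ : p ∈ Set.range hU.fromSpec := hU.range_fromSpec.ge hp
  exact (germ_eq_zero_iff hU q hp x).2 (h q hpZ)

theorem trace_eq_zeroLocus {Z : Set X} (hZ : IsClosed Z) {U : X.Opens} (hU : IsAffineOpen U) :
    ∃ J : Ideal Γ(X, U), trace Z hU = zeroLocus (J : Set Γ(X, U)) :=
  (PrimeSpectrum.isClosed_iff_zeroLocus_ideal _).1 (hZ.preimage hU.fromSpec.continuous)

theorem stable_trace {Z : Set X} (hgen : StableUnderGeneralization Z) {U : X.Opens} (hU : IsAffineOpen U) :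
    StableUnderGeneralization (trace Z hU) :=
  fun _ _ h hx => hgen (h.map hU.fromSpec.continuous) hx

theorem fromSpec_mem_zeroLocus_iff {U : X.Opens} (hU : IsAffineOpen U) (S : Set Γ(X, U))
    (q : PrimeSpectrum Γ(X, U)) : hU.fromSpec q ∈ X.zeroLocus S ↔ q ∈ PrimeSpectrum.zeroLocus S := by
  have hq : hU.fromSpec q ∈ U := hU.range_fromSpec.le ⟨q, rfl⟩
  refine ⟨fun h => ?_, fun h => ?_⟩
  · obtain ⟨q', hq', he⟩ := (hU.fromSpec_image_zeroLocus S).ge ⟨h, hq⟩
    exact hU.fromSpec.isOpenEmbedding.injective he ▸ hq'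
  · exact ((hU.fromSpec_image_zeroLocus S).le ⟨q, h, rfl⟩).1

/-- The ideal sheaf of sections vanishing in the stalks along `Z`. -/
noncomputable def idealSheaf (Z : Closeds X) (hgen : StableUnderGeneralization (Z : Set X)) :
    X.IdealSheafData :=
  Scheme.IdealSheafData.mkOfMemSupportIff (fun U => pureIdeal (trace (Z : Set X) U.2))
    (fun U f => by
      have hD := (X.affineBasicOpen f).2
      refine le_antisymm (Ideal.map_le_iff_le_comap.2 fun x hx => ?_) fun z hz => ?_
      · refine (mem_pureIdeal_iff hD).2 fun p hp hpZ => ?_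
        exact (X.presheaf.germ_res_apply (homOfLE (X.basicOpen_le f)) p hp x).trans
          ((mem_pureIdeal_iff U.2).1 hx p (X.basicOpen_le f hp) hpZ)
      · let _ := (X.presheaf.map (homOfLE (X.basicOpen_le f)).op).hom.toAlgebra
        have : IsLocalization.Away f Γ(X, X.basicOpen f) := U.2.isLocalization_basicOpen f
        obtain ⟨⟨x, ⟨_, m, rfl⟩⟩, hx⟩ := IsLocalization.surj (Submonoid.powers f) z
        obtain ⟨J, hJ⟩ := trace_eq_zeroLocus Z.isClosed U.2
        obtain ⟨n, hn⟩ := exists_pow_mul_mem hJ (stable_trace hgen U.2) (f := f) (x := x) fun q hq hfq => by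
          have hp : U.2.fromSpec q ∈ X.basicOpen f := by
            have : q ∈ U.2.fromSpec ⁻¹ᵁ X.basicOpen f := by
              rw [U.2.fromSpec_preimage_basicOpen]; exact hfq
            exact this
          have hpU : U.2.fromSpec q ∈ U.1 := X.basicOpen_le f hp
          have h0 : X.presheaf.germ U.1 _ hpU x = 0 := by
            rw [← X.presheaf.germ_res_apply (homOfLE (X.basicOpen_le f)) _ hp]
            change X.presheaf.germ _ _ hp (algebraMap Γ(X, U.1) Γ(X, X.basicOpen f) x) = 0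
            have hz0 : X.presheaf.germ (X.basicOpen f) (U.2.fromSpec q) hp z = 0 :=
              (mem_pureIdeal_iff hD).1 hz _ hp hq
            rw [← hx, map_mul, hz0, zero_mul]
          exact (germ_eq_zero_iff U.2 q hpU x).1 h0
        have hu : IsUnit (algebraMap Γ(X, U.1) Γ(X, X.basicOpen f) (f ^ (n + m))) :=
          IsLocalization.map_units (M := Submonoid.powers f) _ ⟨f ^ (n + m), n + m, rfl⟩
        refine (Ideal.unit_mul_mem_iff_mem _ hu).1 ?_
        have : algebraMap Γ(X, U.1) Γ(X, X.basicOpen f) (f ^ (n + m)) * z =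
            algebraMap Γ(X, U.1) Γ(X, X.basicOpen f) (f ^ n * x) := by
          rw [pow_add, map_mul, map_mul, ← hx]
          ring
        rw [this]
        exact Ideal.mem_map_of_mem _ hn)
    Z fun U p hp => by
      obtain ⟨J, hJ⟩ := trace_eq_zeroLocus Z.isClosed U.2
      obtain ⟨q, rfl⟩ : p ∈ Set.range U.2.fromSpec := U.2.range_fromSpec.ge hp
      rw [fromSpec_mem_zeroLocus_iff U.2]
      exact (Set.ext_iff.1 (zeroLocus_pureIdeal hJ (stable_trace hgen U.2)) q).symm

theorem pure_ideal_of_flat (I : X.IdealSheafData) [Flat I.subschemeι] (U : X.affineOpens) :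
    (I.ideal U).Pure := by
  have h : (I.subschemeι.app U.1).hom.Flat := by
    rw [Scheme.Hom.app_eq_appLE]
    exact HasRingHomProperty.appLE (P := @Flat) _ inferInstance U ⟨_, U.2.preimage I.subschemeι⟩ le_rfl
  rw [I.subschemeι_app U, CommRingCat.hom_comp, RingHom.Flat.respectsIso.cancel_right_isIso] at h
  exact RingHom.flat_algebraMap_iff.1 h

theorem flat_subschemeι (I : X.IdealSheafData) (h : ∀ U, (I.ideal U).Pure) : Flat I.subschemeι := by
  refine IsZariskiLocalAtTarget.of_iSup_eq_top (P := @Flat) (fun U : X.affineOpens => U.1)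
    (iSup_affineOpens_eq_top X) fun U => ?_
  have : IsAffine U.1 := U.2
  have : IsAffine (I.subschemeι ⁻¹ᵁ U.1) := U.2.preimage I.subschemeι
  have key : ∀ V : X.Opens, V = U.1 → (I.subschemeι.app V).hom.Flat := by
    rintro _ rfl
    rw [I.subschemeι_app U, CommRingCat.hom_comp, RingHom.Flat.respectsIso.cancel_right_isIso]
    exact RingHom.flat_algebraMap_iff.2 (h U)
  rw [HasRingHomProperty.iff_of_isAffine (P := @Flat), morphismRestrict_appTop]
  exact (RingHom.Flat.respectsIso.cancel_right_isIso _ _).2 (key _ U.1.ι_image_top)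

theorem flat_idealSheaf (Z : Closeds X) (hgen : StableUnderGeneralization (Z : Set X)) :
    Flat (idealSheaf Z hgen).subschemeι := by
  refine flat_subschemeι _ fun U => ?_
  obtain ⟨J, hJ⟩ := trace_eq_zeroLocus Z.isClosed U.2
  exact pure_pureIdeal hJ (stable_trace hgen U.2)

theorem stable_support_of_flat (I : X.IdealSheafData) [Flat I.subschemeι] :
    StableUnderGeneralization (I.support : Set X) := by
  rw [← I.range_subschemeι]
  rintro x y hxy ⟨z, rfl⟩
  obtain ⟨w, -, hw⟩ := Flat.generalizingMap I.subschemeι hxy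
  exact ⟨w, hw⟩

theorem ideal_eq_of_flat (I : X.IdealSheafData) [Flat I.subschemeι] (U : X.affineOpens) :
    I.ideal U = pureIdeal (trace (I.support : Set X) U.2) := by
  have := pure_ideal_of_flat I U
  refine eq_pureIdeal_of_pure _ (Set.ext fun q => ?_) (stable_trace (stable_support_of_flat I) U.2)
  have hq : U.2.fromSpec q ∈ U.1 := U.2.range_fromSpec.le ⟨q, rfl⟩
  exact (fromSpec_mem_zeroLocus_iff U.2 _ q).symm.trans (I.mem_support_iff_of_mem hq).symm

theorem exists_factor (I : X.IdealSheafData) [Flat I.subschemeι] {Y : Scheme.{u}} (g : Y ⟶ X)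
    (hg : Set.range g ⊆ (I.support : Set X)) : ∃ g' : Y ⟶ I.subscheme, g' ≫ I.subschemeι = g := by
  have hle : I ≤ g.ker := Scheme.IdealSheafData.le_ofIdeals_iff.2 fun U x hx => by
    rw [RingHom.mem_ker]
    refine TopCat.Presheaf.section_ext Y.sheaf _ _ _ fun y hy => ?_
    show Y.presheaf.germ _ y hy _ = Y.presheaf.germ _ y hy 0
    rw [ideal_eq_of_flat, mem_pureIdeal_iff U.2] at hx
    rw [map_zero, ← Scheme.Hom.germ_stalkMap_apply g U.1 y hy, hx _ _ (hg ⟨y, rfl⟩), map_zero]
  exact ⟨g.toImage ≫ Scheme.IdealSheafData.inclusion hle, by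
    rw [Category.assoc, Scheme.IdealSheafData.inclusion_subschemeι]
    exact g.toImage_imageι⟩

end Groth.Agent.PureIdealSheaf
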