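import Mathlib.RingTheory.Ideal.Pure
import Mathlib.RingTheory.Spectrum.Prime.Topology

/-!
# The pure ideal of a closed set stable under generalization
-/

set_option autoImplicit false

universe u

open PrimeSpectrum

namespace Groth.Agent.PureIdealSheaf

variable {R : Type u} [CommRing R]

/-- The elements vanishing in the local rings at the points of `Z`. -/
def pureIdeal (Z : Set (PrimeSpectrum R)) : Ideal R :=
  ⨅ q ∈ Z, RingHom.ker (algebraMap R (Localization.AtPrime q.asIdeal))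

theorem mem_pureIdeal {Z : Set (PrimeSpectrum R)} {x : R} :
    x ∈ pureIdeal Z ↔ ∀ q ∈ Z, ∃ s ∉ q.asIdeal, s * x = 0 := by
  simp only [pureIdeal, Ideal.mem_iInf, RingHom.mem_ker]
  refine forall_congr' fun q => imp_congr_right fun _ => ?_
  rw [IsLocalization.map_eq_zero_iff q.asIdeal.primeCompl]
  exact ⟨fun ⟨s, hs⟩ => ⟨s, s.2, hs⟩, fun ⟨s, hs, h⟩ => ⟨⟨s, hs⟩, h⟩⟩

variable {Z : Set (PrimeSpectrum R)} {J : Ideal R} (hJ : Z = zeroLocus (J : Set R))

include hJ in
theorem exists_eq_mul {x : R} (hx : x ∈ pureIdeal Z) : ∃ y ∈ J, x = x * y := by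
  let K : Ideal R := LinearMap.ker (LinearMap.toSpanSingleton R R x)
  have hK : K ⊔ J = ⊤ := by
    by_contra h
    obtain ⟨m, hm, hle⟩ := Ideal.exists_le_maximal _ h
    obtain ⟨s, hs, h0⟩ := mem_pureIdeal.1 hx ⟨m, hm.isPrime⟩ (hJ ▸ (le_sup_right.trans hle : J ≤ m))
    exact hs (hle (Ideal.mem_sup_left (show s ∈ K by simpa [K] using h0)))
  obtain ⟨k, hk, y, hy, hky⟩ := Submodule.mem_sup.1 ((Ideal.eq_top_iff_one _).1 hK)
  have hk0 : k * x = 0 := by simpa [K] using hk
  exact ⟨y, hy, by linear_combination hk0 - x * hky⟩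

variable (hgen : StableUnderGeneralization Z)

include hJ hgen in
/-- The key argument: an element killed locally on `Z` after inverting `f` is killed globally by a power of `f`. -/
theorem exists_pow_mul_mem {f x : R}
    (h : ∀ q ∈ Z, f ∉ q.asIdeal → ∃ s ∉ q.asIdeal, s * x = 0) :
    ∃ n : ℕ, f ^ n * x ∈ pureIdeal Z := by
  let K : Ideal R := ⨆ n : ℕ, LinearMap.ker (LinearMap.toSpanSingleton R R (f ^ n * x))
  have hmono : Monotone fun n : ℕ => LinearMap.ker (LinearMap.toSpanSingleton R R (f ^ n * x)) := by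
    refine monotone_nat_of_le_succ fun n s hs => ?_
    simp only [LinearMap.mem_ker, LinearMap.toSpanSingleton_apply, smul_eq_mul] at hs ⊢
    linear_combination f * hs
  have mem_K : ∀ {s : R}, s ∈ K ↔ ∃ n : ℕ, s * (f ^ n * x) = 0 := fun {s} => by
    simp [K, Submodule.mem_iSup_of_directed _ hmono.directed_le]
  have hK : K ⊔ J = ⊤ := by
    by_contra hne
    obtain ⟨m, hm, hle⟩ := Ideal.exists_le_maximal _ hne
    have hdisj : Disjoint ((LinearMap.ker (LinearMap.toSpanSingleton R R x) : Ideal R) : Set R)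
        ↑(m.primeCompl ⊔ Submonoid.powers f : Submonoid R) := by
      rw [Set.disjoint_left]
      intro a ha ha'
      obtain ⟨s, hs, b, ⟨n, rfl⟩, rfl⟩ := Submonoid.mem_sup.1 ha'
      simp only [SetLike.mem_coe, LinearMap.mem_ker, LinearMap.toSpanSingleton_apply, smul_eq_mul] at ha
      exact hs (hle (Ideal.mem_sup_left (mem_K.2 ⟨n, by linear_combination ha⟩)))
    obtain ⟨q, hq, hle', hq'⟩ := Ideal.exists_le_prime_disjoint _ _ hdisj
    rw [Set.disjoint_left] at hq'
    have hqm : q ≤ m := fun a ha => by_contra fun ham => hq' ha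
      (SetLike.le_def.1 le_sup_left (show a ∈ m.primeCompl from ham))
    have hqZ : (⟨q, hq⟩ : PrimeSpectrum R) ∈ Z := hgen
      ((le_iff_specializes _ _).1 (show (⟨q, hq⟩ : PrimeSpectrum R) ≤ ⟨m, hm.isPrime⟩ from hqm))
      (hJ ▸ (le_sup_right.trans hle : J ≤ m))
    have hfq : f ∉ q := fun hf => hq' hf (SetLike.le_def.1 le_sup_right (Submonoid.mem_powers f))
    obtain ⟨s, hs, h0⟩ := h _ hqZ hfq
    exact hs (hle' (by simpa using h0))
  obtain ⟨k, hk, y, hy, hky⟩ := Submodule.mem_sup.1 ((Ideal.eq_top_iff_one _).1 hK)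
  obtain ⟨n, hn⟩ := mem_K.1 hk
  refine ⟨n, mem_pureIdeal.2 fun q hq => ⟨k, fun hkq => q.isPrime.ne_top ?_, hn⟩⟩
  rw [hJ] at hq
  exact (Ideal.eq_top_iff_one _).2 (hky ▸ add_mem hkq (hq hy))

include hJ hgen in
theorem exists_pow_mem {y : R} (hy : y ∈ J) : ∃ n : ℕ, y ^ n ∈ pureIdeal Z := by
  obtain ⟨n, hn⟩ := exists_pow_mul_mem hJ hgen (f := y) (x := 1) fun q hq hyq => by
    rw [hJ] at hq
    exact absurd (hq hy) hyq
  exact ⟨n, by simpa using hn⟩

include hJ hgen in
theorem zeroLocus_pureIdeal : zeroLocus (pureIdeal Z : Set R) = Z := by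
  refine Set.Subset.antisymm (fun q hq => ?_) fun q hq x hx => ?_
  · rw [hJ]
    intro y hy
    obtain ⟨n, hn⟩ := exists_pow_mem hJ hgen hy
    exact q.isPrime.mem_of_pow_mem n (hq hn)
  · obtain ⟨s, hs, h0⟩ := mem_pureIdeal.1 hx q hq
    exact (q.isPrime.mem_or_mem (h0 ▸ q.asIdeal.zero_mem : s * x ∈ q.asIdeal)).resolve_left hs

include hJ hgen in
theorem pure_pureIdeal : (pureIdeal Z).Pure := by
  refine Ideal.Pure.of_inf_eq_mul _ fun J' _ => le_antisymm (fun x hx => ?_) Ideal.mul_le_inf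
  obtain ⟨y, hy, hxy⟩ := exists_eq_mul hJ hx.1
  obtain ⟨n, hn⟩ := exists_pow_mem hJ hgen hy
  have key : ∀ m : ℕ, x = x * y ^ m := fun m => by
    induction m with
    | zero => simp
    | succ m ih => linear_combination hxy + y * ih
  have h' := Ideal.mul_mem_mul hn hx.2
  rwa [mul_comm (y ^ n), ← key n] at h'

theorem eq_pureIdeal_of_pure (I : Ideal R) [I.Pure] (h : zeroLocus (I : Set R) = Z)
    (hgen : StableUnderGeneralization Z) : I = pureIdeal Z := by
  have := pure_pureIdeal h.symm hgen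
  exact Ideal.zeroLocus_inj_of_pure.1 (h.trans (zeroLocus_pureIdeal h.symm hgen).symm)

end Groth.Agent.PureIdealSheaf
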